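import Cfsg.Agent.Lib.FGS.SectRank
import Cfsg.Agent.Lib.Fusion.Focal

/-!
# Bicyclic `2`-groups: the maximal subgroups containing a generator are metacyclic
-/

set_option autoImplicit false

namespace Cfsg.Lib.Bic

open Subgroup Cfsg.Lib.BG Cfsg.Lib.PGroup
open scoped commutatorElement

universe u

/-- `G = ⟨x⟩ ⟨y⟩` -/
def Bi {G : Type*} [Group G] (x y : G) : Prop := ∀ g, ∃ i j : ℤ, g = x ^ i * y ^ j

variable {G : Type*} [Group G] {x y z : G} {M : Subgroup G}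

theorem Bi.symm (h : Bi x y) : Bi y x := fun g => by
  obtain ⟨i, j, e⟩ := h g⁻¹
  exact ⟨-j, -i, by rw [← inv_inv g, e]; group⟩

theorem Bi.map {H : Type*} [Group H] (h : Bi x y) {f : G →* H} (hf : Function.Surjective f) : Bi (f x) (f y) :=
  fun g => by
    obtain ⟨g, rfl⟩ := hf g
    obtain ⟨i, j, rfl⟩ := h g
    exact ⟨i, j, by simp⟩

theorem Bi.eq_top (h : Bi x y) (hx : x ∈ M) (hy : y ∈ M) : M = ⊤ := eq_top_iff.2 fun g _ => by
  obtain ⟨i, j, rfl⟩ := h g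
  exact mul_mem (zpow_mem hx i) (zpow_mem hy j)

theorem zpow_mem_iff_of_index (hM : M.index = 2) (hy : y ∉ M) {j : ℤ} : y ^ j ∈ M ↔ 2 ∣ j := by
  obtain ⟨k, rfl | rfl⟩ := j.even_or_odd'
  · simpa [zpow_mul] using zpow_mem (sq_mem_of_index_two hM y) k
  · rw [zpow_add_one, zpow_mul, mul_mem_cancel_left (zpow_mem (by simpa using sq_mem_of_index_two hM y) k)]
    simpa using hy

theorem Bi.mem (h : Bi x y) (hM : M.index = 2) (hx : x ∈ M) {g : G} (hg : g ∈ M) :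
    ∃ i j : ℤ, g = x ^ i * (y * y) ^ j := by
  obtain ⟨i, j, rfl⟩ := h g
  obtain ⟨k, rfl⟩ := (zpow_mem_iff_of_index hM fun e => by simp [h.eq_top hx e] at hM).1
    ((mul_mem_cancel_left (zpow_mem hx i)).1 hg)
  exact ⟨i, k, by rw [zpow_mul, zpow_two]⟩

variable [Finite G]

/-- Blackburn's step. -/
theorem meta_or (hM : IsPGroup 2 M) (hz : z ∈ ⁅M, M⁆) (zc : z ∈ center G) (z2 : orderOf z = 2)
    [(zpowers z).Normal] (h : IsMetacyclic (M.map (QuotientGroup.mk' (zpowers z)))) :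
    IsMetacyclic M ∨ ⁅M, M⁆ ≤ zpowers z := by
  have hz4 : Nat.card (zpowers z) = 2 := by rw [Nat.card_zpowers, z2]
  have hw : ∀ w ∈ zpowers z, w ^ 2 = 1 ∧ ∀ g, Commute g w := fun w h =>
    ⟨hz4 ▸ congrArg Subtype.val (pow_card_eq_one' (x := (⟨w, h⟩ : zpowers z))), mem_center_iff.1 (zpowers_le.2 zc h)⟩
  obtain ⟨_, _, h1, h2⟩ := isMetacyclic_subgroup_iff.1 h
  obtain ⟨a, ha, rfl⟩ := h2.le (mem_sup_left (mem_zpowers _))
  obtain ⟨b, hb, rfl⟩ := h2.le (mem_sup_right (mem_zpowers _))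
  have h3 : zpowers a ⊔ zpowers b = M := Fusion.eq_of_le_sup_commutator hM
    (sup_le (zpowers_le.2 ha) (zpowers_le.2 hb)) (le_trans (by
      rw [← QuotientGroup.ker_mk' (zpowers z), ← comap_map_eq, Subgroup.map_sup, MonoidHom.map_zpowers,
        MonoidHom.map_zpowers, h2]
      exact le_comap_map _ _) (sup_le_sup_left (zpowers_le.2 hz) _))
  obtain ⟨r, hr1⟩ := conj_mem_of_norm h1 (mem_zpowers _)
  obtain ⟨w, hw1, e⟩ : ∃ w ∈ zpowers z, b * a * b⁻¹ = a ^ r * w :=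
    ⟨(a ^ r)⁻¹ * (b * a * b⁻¹), QuotientGroup.eq.1 hr1, by group⟩
  by_cases hza : z ∈ zpowers a
  · obtain ⟨i, hi⟩ := e ▸ mul_mem (zpow_mem_zpowers a r) (zpowers_le.2 hza hw1)
    exact .inl (isMetacyclic_subgroup_iff.2 ⟨a, b, mem_normalizer_zpowers hi.symm, h3⟩)
  have hc1 : ⁅b, a⁆ = a ^ (r - 1) * w := by
    rw [commutatorElement_def, e, mul_assoc, ← ((hw w hw1).2 a⁻¹).eq]; group
  have h4 : ⁅M, M⁆ ≤ zpowers ⁅b, a⁆ := commutator_le_of_pair ((sup_comm _ _).trans h3) (h3 ▸ sup_le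
    (zpowers_le.2 (cent_le_norm _ (cent_symm (zpowers_le.2 (mem_cent.2 ?_)) (mem_zpowers a))))
    (zpowers_le.2 (mem_normalizer_zpowers (k := r) (Eq.symm ?_)))) (mem_zpowers _)
  rotate_left
  · rintro _ ⟨i, rfl⟩
    exact hc1 ▸ (((Commute.refl a).zpow_zpow i _).mul_right ((hw w hw1).2 _)).eq
  · rw [hc1, ← mul_assoc, mul_assoc _ w, ← ((hw w hw1).2 b⁻¹).eq, ← mul_assoc, ← conj_zpow, e,
      ((hw w hw1).2 _).mul_zpow, ((hw w hw1).2 _).mul_zpow]
    group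
  have h5 : ⁅b, a⁆ ^ 2 ∈ zpowers a := by
    rw [hc1, ((hw w hw1).2 _).mul_pow, (hw w hw1).1, mul_one]; exact pow_mem (zpow_mem_zpowers _ _) 2
  rcases FGS.le_total_of_isCyclic (hM.to_le (zpowers_le.2 (der_le M (commutator_mem_commutator hb ha)))) inferInstance
    (zpowers_le.2 (h4 hz)) (zpowers_le.2 (npow_mem_zpowers ⁅b, a⁆ 2)) with h | h
  · exact absurd (zpowers_le.2 h5 (h (mem_zpowers z))) hza
  refine .inr (h4.trans (eq_of_le_of_card_le (zpowers_le.2 (h4 hz)) ?_).ge)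
  rw [hz4, Nat.card_zpowers]
  refine Nat.le_of_dvd two_pos (orderOf_dvd_of_pow_eq_one ?_)
  exact (inf_eq_bot_of_prime (hz4 ▸ Nat.prime_two) fun e => hza (e (mem_zpowers z))).le ⟨h (mem_zpowers _), h5⟩

theorem Bi.meta_of_small (h : Bi x y) (hG : IsPGroup 2 G) (hM : M.index = 2) (hx : x ∈ M) (zc : z ∈ center G)
    (z2 : z * z = 1) (hz : ⁅M, M⁆ ≤ zpowers z) : IsMetacyclic M := by
  obtain ⟨u, hu⟩ : ∃ u, u = y * y := ⟨_, rfl⟩
  have z3 : z ^ (2 : ℤ) = 1 := (zpow_two z).trans z2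
  have um : u ∈ M := hu ▸ mul_self_mem_of_index_two hM y
  have mem : ∀ g ∈ M, ∃ i j : ℤ, g = x ^ i * u ^ j := fun g hg => hu ▸ h.mem hM hx hg
  have gen : ∀ a ∈ M, ∀ b ∈ M, x ∈ zpowers a ⊔ zpowers b → u ∈ zpowers a ⊔ zpowers b → zpowers a ⊔ zpowers b = M :=
    fun a ha b hb h1 h2 => le_antisymm (sup_le (zpowers_le.2 ha) (zpowers_le.2 hb)) fun g hg => by
      obtain ⟨i, j, rfl⟩ := mem g hg
      exact mul_mem (zpow_mem h1 i) (zpow_mem h2 j)
  have cz : ∀ a ∈ M, ∀ b ∈ M, ⁅a, b⁆ = 1 ∨ ⁅a, b⁆ = z := fun a ha b hb => by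
    obtain ⟨i, e⟩ := hz (commutator_mem_commutator ha hb)
    obtain ⟨k, rfl | rfl⟩ := i.even_or_odd' <;> simp [← e, zpow_add_one, zpow_mul, z3]
  have cc : ∀ a ∈ M, ∀ b ∈ M, ∀ g, Commute g ⁅a, b⁆ := fun a ha b hb =>
    mem_center_iff.1 (zpowers_le.2 zc (hz (commutator_mem_commutator ha hb)))
  have ev : ∀ a ∈ M, ∀ b ∈ M, ∀ i : ℤ, 2 ∣ i → Commute (a ^ i) b := by
    rintro a ha b hb _ ⟨i, rfl⟩
    rw [← commutatorElement_eq_one_iff_commute, commutator_zpow_left_of_commute (cc a ha b hb a), zpow_mul]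
    rcases cz a ha b hb with e | e <;> simp [e, z3]
  have od : ∀ (a : G) (i : ℤ) (L : Subgroup G), ¬ 2 ∣ i → a ^ i ∈ L → a ∈ L := fun a i L hi e =>
    zpowers_le.2 e ((zpowers_zpow_eq_of_not_dvd (hG a).choose_spec hi).ge (mem_zpowers a))
  have key : ∀ i j : ℤ, ¬ (2 ∣ i ∧ 2 ∣ j) → z ∈ zpowers (x ^ i * u ^ j) → IsMetacyclic M := fun i j hij e => by
    have hm := mul_mem (zpow_mem hx i) (zpow_mem um j)
    have n : M ≤ 𝐍(zpowers (x ^ i * u ^ j)) :=
      norm_of_comm_le ((commutator_mono (zpowers_le.2 hm) le_rfl).trans (hz.trans (zpowers_le.2 e)))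
    have l := fun b => mem_sup_left (T := zpowers b) (mem_zpowers (x ^ i * u ^ j))
    have r := fun b => mem_sup_right (S := zpowers (x ^ i * u ^ j)) (mem_zpowers b)
    rcases not_and_or.1 hij with k | k
    · exact isMetacyclic_subgroup_iff.2 ⟨_, u, n um, gen _ hm u um
        (od x i _ k ((mul_mem_cancel_right (zpow_mem (r u) j)).1 (l u))) (r u)⟩
    · exact isMetacyclic_subgroup_iff.2 ⟨_, x, n hx, gen _ hm x hx (r x)
        (od u j _ k ((mul_mem_cancel_left (zpow_mem (r x) i)).1 (l x)))⟩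
  by_cases c : Commute u x
  · exact isMetacyclic_subgroup_iff.2 ⟨x, u, mem_normalizer_zpowers (k := 1) (by simp [c.eq]),
      gen x hx u um (mem_sup_left (mem_zpowers x)) (mem_sup_right (mem_zpowers u))⟩
  have c1 : ∀ {a b}, a ∈ M → b ∈ M → ¬ Commute a b → ⁅a, b⁆ = z := fun ha hb k =>
    (cz _ ha _ hb).resolve_left (mt commutatorElement_eq_one_iff_commute.1 k)
  have z1 : z ≠ 1 := fun e => c (commutatorElement_eq_one_iff_commute.1 ((c1 um hx c).trans e))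
  obtain ⟨i, j, e⟩ := mem z (c1 um hx c ▸ der_le M (commutator_mem_commutator um hx))
  by_cases hij : 2 ∣ i ∧ 2 ∣ j
  swap
  · exact key i j hij (e ▸ mem_zpowers z)
  obtain ⟨g, i, j, g0, hg, rfl, rfl⟩ := Int.exists_gcd_one' (m := i) (n := j)
    (Int.gcd_pos_iff.2 (by_contra fun k => z1 (by simp_all)))
  have nij : ¬ (2 ∣ i ∧ 2 ∣ j) := fun k => by simpa [hg] using Int.dvd_gcd k.1 k.2
  have pw := mul_pow_of_commute_commutator (cc _ (zpow_mem um j) _ (zpow_mem hx i) (x ^ i))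
    (cc _ (zpow_mem um j) _ (zpow_mem hx i) (u ^ j)) g
  rw [mul_assoc, ← zpow_natCast (x ^ i), ← zpow_natCast (u ^ j), ← zpow_mul, ← zpow_mul, ← e] at pw
  by_cases w : ⁅u ^ j, x ^ i⁆ ^ g.choose 2 = 1
  · exact key i j nij (by rw [← one_mul z, ← w, ← pw]; exact npow_mem_zpowers _ g)
  have yu : Commute y u := hu ▸ (Commute.refl y).mul_right (Commute.refl y)
  have y2 : Commute y (x ^ (2 : ℤ)) := by
    have i1 : ¬ 2 ∣ i := fun k => w (by
      rw [commutatorElement_eq_one_iff_commute.2 (ev x hx _ (zpow_mem um j) i k).symm, one_pow])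
    obtain ⟨k, rfl⟩ : 2 ∣ g := by
      have : (2 : ℤ) ∣ g := (Int.prime_two.dvd_or_dvd hij.1).resolve_left i1
      omega
    have k1 : ¬ 2 ∣ k := by
      rintro ⟨k, rfl⟩
      refine w ?_
      rw [Nat.choose_two_right, show 2 * (2 * k) * (2 * (2 * k) - 1) / 2 = 2 * (k * (2 * (2 * k) - 1)) from
        Nat.div_eq_of_eq_mul_left two_pos (by ring), pow_mul]
      rcases cz _ (zpow_mem um j) _ (zpow_mem hx i) with d | d <;> simp [d, _root_.sq, z2]
    refine od _ (i * k) 𝐂[y] (fun d => (Int.prime_two.dvd_or_dvd d).elim i1 fun d => k1 (by omega)) ?_ y rfl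
    rintro _ rfl
    rw [← zpow_mul, show (2 : ℤ) * (i * k) = i * (2 * k : ℕ) by push_cast; ring, eq_mul_inv_of_mul_eq e.symm]
    exact (Commute.mul_right (mem_center_iff.1 zc _) (yu.zpow_right _).inv_right).eq
  obtain ⟨a, b, d⟩ := mem (x⁻¹ * (y * x * y⁻¹)) (mul_mem (inv_mem hx) ((normal_of_index_eq_two hM).conj_mem x hx y))
  have ye : ∀ a : ℤ, 2 ∣ a → Commute y (x ^ a * u ^ b) := by
    rintro _ ⟨a, rfl⟩
    exact (zpow_mul x 2 a ▸ y2.zpow_right a).mul_right (yu.zpow_right b)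
  have a2 : 2 ∣ a := by_contra fun k => c (by
    have := ye (1 + a) (by omega)
    rw [zpow_add, zpow_one, mul_assoc, ← d, mul_inv_cancel_left] at this
    have : Commute y x := by simpa [mul_assoc] using this.conj y⁻¹
    exact hu ▸ this.mul_left this)
  have d2 : (x ^ a * u ^ b) * (x ^ a * u ^ b) = z := by
    have := (ye a a2).eq
    rw [← c1 (inv_mem hx) um fun k => c (by simpa using k.symm), commutatorElement_def]
    nth_rewrite 2 [← mul_inv_cancel_right (x ^ a * u ^ b) y]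
    rw [← this, ← d, hu]
    group
  refine key a b (fun k => z1 ?_) (d2 ▸ mul_mem (mem_zpowers _) (mem_zpowers _))
  have k1 : Commute x (x ^ a * u ^ b) := ((Commute.refl x).zpow_right a).mul_right (ev u um x hx b k.2).symm
  have k2 : (y * x * y⁻¹) ^ (2 : ℤ) = x ^ (2 : ℤ) := by rw [conj_zpow, y2.eq, mul_inv_cancel_right]
  rw [← mul_inv_cancel_left x (y * x * y⁻¹), d, k1.mul_zpow, mul_eq_left, zpow_two] at k2
  exact d2.symm.trans k2

/-- Janko. -/
theorem Bi.meta {G : Type u} [Group G] [Finite G] {x y : G} {M : Subgroup G} (h : Bi x y) (hG : IsPGroup 2 G)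
    (hM : M.index = 2) (hx : x ∈ M) : IsMetacyclic M := by
  induction hn : Nat.card G using Nat.strong_induction_on generalizing G with
  | _ n ih =>
  by_cases hc : ⁅M, M⁆ = ⊥
  · exact h.meta_of_small hG hM hx (one_mem _) (one_mul 1) (hc ▸ bot_le)
  have := normal_of_index_eq_two hM
  obtain ⟨z, hz1, hz2, hz3⟩ := exists_mem_center_orderOf_eq hG ⁅M, M⁆ hc
  have := normal_of_le_center (zpowers_le.2 hz2)
  refine (meta_or (hG.to_subgroup M) hz1 hz2 hz3 (ih _ ?_ (h.map (QuotientGroup.mk'_surjective _)) (hG.to_quotient _)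
    ?_ (mem_map_of_mem _ hx) rfl)).elim id (h.meta_of_small hG hM hx hz2 (by rw [← _root_.sq, ← hz3, pow_orderOf_eq_one]))
  · rw [← hn, card_eq_card_quotient_mul_card_subgroup (zpowers z), Nat.card_zpowers, hz3]
    have := Nat.card_pos (α := G ⧸ zpowers z)
    omega
  · rw [index_map_eq _ (QuotientGroup.mk'_surjective _) (by simpa using der_le M hz1), hM]

end Cfsg.Lib.Bic
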